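import Mathlib

/-!
# Forms through finite sets of points: separation by products of linear forms
-/

universe u

open MvPolynomial

namespace Groth.Agent.PlanePts

variable {k : Type u} [Field k]

/-- The linear form attached to a functional. -/
noncomputable def linForm {m : ℕ} (ℓ : (Fin m → k) →ₗ[k] k) : MvPolynomial (Fin m) k :=
  ∑ i, C (ℓ (Pi.single i 1)) * X i

theorem linForm_isHomogeneous {m : ℕ} (ℓ : (Fin m → k) →ₗ[k] k) :
    (linForm ℓ).IsHomogeneous 1 :=
  IsHomogeneous.sum _ _ _ fun i _ => isHomogeneous_C_mul_X _ i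

theorem aeval_linForm {m : ℕ} (ℓ : (Fin m → k) →ₗ[k] k) (u : Fin m → k) :
    aeval u (linForm ℓ) = ℓ u := by
  classical
  simp only [linForm, map_sum, map_mul, aeval_C, aeval_X, Algebra.algebraMap_self, RingHom.id_apply]
  conv_rhs => rw [pi_eq_sum_univ' u]
  simp only [map_sum, map_smul, smul_eq_mul]
  exact Finset.sum_congr rfl fun i _ => mul_comm _ _

/-- A product of linear forms through a finite set of points, missing a given point. -/
theorem exists_form {m : ℕ} (S : Finset (Fin m → k)) (v : Fin m → k)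
    (hind : ∀ w ∈ S, LinearIndependent k ![v, w]) :
    ∃ f : MvPolynomial (Fin m) k, f.IsHomogeneous S.card ∧ (∀ w ∈ S, aeval w f = 0) ∧
      aeval v f ≠ 0 := by
  classical
  have h : ∀ w ∈ S, ∃ ℓ : (Fin m → k) →ₗ[k] k, ℓ w = 0 ∧ ℓ v ≠ 0 := by
    intro w hw
    have hv : v ∉ Submodule.span k ({w} : Set (Fin m → k)) := by
      rw [Submodule.mem_span_singleton]
      rintro ⟨c, hc⟩
      have h2 := LinearIndependent.pair_iff.1 (hind w hw) 1 (-c) (by rw [← hc]; simp)
      exact one_ne_zero h2.1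
    obtain ⟨ℓ, hℓv, hℓ⟩ := Submodule.exists_dual_map_eq_bot_of_notMem hv inferInstance
    refine ⟨ℓ, ?_, hℓv⟩
    have : ℓ w ∈ (Submodule.span k ({w} : Set (Fin m → k))).map ℓ :=
      Submodule.mem_map_of_mem (Submodule.mem_span_singleton_self w)
    rw [hℓ] at this
    exact (Submodule.mem_bot k).1 this
  choose ℓ hℓw hℓv using h
  refine ⟨∏ w ∈ S.attach, linForm (ℓ w.1 w.2), ?_, ?_, ?_⟩
  · have := IsHomogeneous.prod S.attach (fun w => linForm (ℓ w.1 w.2)) (fun _ => 1)
      (fun w _ => linForm_isHomogeneous _)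
    simpa using this
  · intro w hw
    rw [map_prod]
    exact Finset.prod_eq_zero (Finset.mem_attach _ ⟨w, hw⟩) (by rw [aeval_linForm]; exact hℓw w hw)
  · rw [map_prod, Finset.prod_ne_zero_iff]
    intro w _
    rw [aeval_linForm]
    exact hℓv w.1 w.2

/-- If a set of points is not on a line, every further point is missed by a line through two. -/
theorem exists_pair {m : ℕ} (S : Finset (Fin m → k)) (v : Fin m → k) (hm : 2 < m)
    (hS : S.Nonempty) (hind : ∀ w ∈ S, LinearIndependent k ![v, w])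
    (hline : ¬ ∃ ℓ : (Fin m → k) →ₗ[k] k, ℓ ≠ 0 ∧ ∀ w ∈ S, ℓ w = 0) :
    ∃ w₁ ∈ S, ∃ w₂ ∈ S, w₁ ≠ w₂ ∧ ∃ ℓ : (Fin m → k) →ₗ[k] k, ℓ w₁ = 0 ∧ ℓ w₂ = 0 ∧ ℓ v ≠ 0 := by
  classical
  by_contra hc
  push Not at hc
  obtain ⟨w₁, hw₁⟩ := hS
  let P : Submodule k (Fin m → k) := Submodule.span k {v, w₁}
  have hmem : ∀ w ∈ S, w ∈ P := by
    intro w hw
    by_cases h1 : w₁ = w
    · subst h1; exact Submodule.subset_span (by simp)
    · by_contra hwP
      have hv : v ∉ Submodule.span k ({w₁, w} : Set (Fin m → k)) := by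
        rw [Submodule.mem_span_pair]
        rintro ⟨a, b, hab⟩
        by_cases hb : b = 0
        · subst hb
          have h2 := LinearIndependent.pair_iff.1 (hind w₁ hw₁) 1 (-a) (by rw [← hab]; simp)
          exact one_ne_zero h2.1
        · apply hwP
          have : w = b⁻¹ • v - (b⁻¹ * a) • w₁ := by
            rw [← hab, smul_add, smul_smul, smul_smul, inv_mul_cancel₀ hb, one_smul]
            abel
          rw [this]
          exact sub_mem (P.smul_mem _ (Submodule.subset_span (by simp)))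
            (P.smul_mem _ (Submodule.subset_span (by simp)))
      obtain ⟨ℓ, hℓv, hℓ⟩ := Submodule.exists_dual_map_eq_bot_of_notMem hv inferInstance
      have hz : ∀ z ∈ Submodule.span k ({w₁, w} : Set (Fin m → k)), ℓ z = 0 := fun z hz => by
        have : ℓ z ∈ (Submodule.span k ({w₁, w} : Set (Fin m → k))).map ℓ :=
          Submodule.mem_map_of_mem hz
        rw [hℓ] at this
        exact (Submodule.mem_bot k).1 this
      exact hℓv (hc w₁ hw₁ w hw h1 ℓ (hz _ (Submodule.subset_span (by simp)))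
        (hz _ (Submodule.subset_span (by simp))))
  have hP : P < ⊤ := by
    refine lt_of_le_of_ne le_top fun h => ?_
    have h1 : Module.finrank k P ≤ ({v, w₁} : Finset (Fin m → k)).card := by
      have := finrank_span_finset_le_card (R := k) ({v, w₁} : Finset (Fin m → k))
      rwa [Finset.coe_insert, Finset.coe_singleton] at this
    have h2 : ({v, w₁} : Finset (Fin m → k)).card ≤ 2 := Finset.card_le_two
    rw [h, finrank_top, Module.finrank_fin_fun] at h1
    omega
  obtain ⟨ℓ, hℓ0, hℓ⟩ := Submodule.exists_le_ker_of_lt_top P hP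
  exact hline ⟨ℓ, hℓ0, fun w hw => hℓ (hmem w hw)⟩

/-- The forms of a given degree through a set of points, not passing through a further point. -/
theorem eq_smul_of_le {n : ℕ} (hn : 3 ≤ n) {Λ Λ' : Finset (Fin 3 → k)} (hcard' : Λ'.card = n)
    (h0 : ∀ v ∈ Λ, v ≠ 0) (h0' : ∀ v ∈ Λ', v ≠ 0)
    (hline' : ¬ ∃ ℓ : (Fin 3 → k) →ₗ[k] k, ℓ ≠ 0 ∧ ∀ v ∈ Λ', ℓ v = 0)
    (hle : (MvPolynomial.homogeneousSubmodule (Fin 3) k (n - 1) ⊓
        ⨅ v ∈ Λ', LinearMap.ker (MvPolynomial.aeval v).toLinearMap) ≤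
      (MvPolynomial.homogeneousSubmodule (Fin 3) k (n - 1) ⊓
        ⨅ v ∈ Λ, LinearMap.ker (MvPolynomial.aeval v).toLinearMap)) :
    ∀ v ∈ Λ, ∃ w ∈ Λ', ∃ c : k, v = c • w := by
  classical
  intro v hv
  by_contra hc
  push Not at hc
  have hind : ∀ w ∈ Λ', LinearIndependent k ![v, w] := by
    intro w hw
    rw [LinearIndependent.pair_iff]
    intro s t hst
    by_cases hs : s = 0
    · subst hs
      refine ⟨rfl, ?_⟩
      rw [zero_smul, zero_add, smul_eq_zero] at hst
      exact hst.resolve_right (h0' w hw)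
    · refine absurd ?_ (hc w hw (-(s⁻¹ * t)))
      have h := congrArg (fun z => s⁻¹ • z) hst
      simp only [smul_add, smul_smul, inv_mul_cancel₀ hs, one_smul, smul_zero] at h
      rw [neg_smul]
      exact eq_neg_of_add_eq_zero_left h
  obtain ⟨w₁, hw₁, w₂, hw₂, hne, ℓ, hℓ1, hℓ2, hℓv⟩ :=
    exists_pair Λ' v (by norm_num) (Finset.card_pos.1 (by omega)) hind hline'
  let S := (Λ'.erase w₁).erase w₂
  have hScard : S.card = n - 2 := by
    have h2 : w₂ ∈ Λ'.erase w₁ := Finset.mem_erase.2 ⟨hne.symm, hw₂⟩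
    rw [Finset.card_erase_of_mem h2, Finset.card_erase_of_mem hw₁, hcard']
    omega
  obtain ⟨f, hf, hfS, hfv⟩ := exists_form S v
    (fun w hw => hind w (Finset.mem_of_mem_erase (Finset.mem_of_mem_erase hw)))
  have hg : (linForm ℓ * f).IsHomogeneous (n - 1) := by
    have := (linForm_isHomogeneous ℓ).mul hf
    rwa [hScard, show 1 + (n - 2) = n - 1 by omega] at this
  have hmem : linForm ℓ * f ∈ (MvPolynomial.homogeneousSubmodule (Fin 3) k (n - 1) ⊓
      ⨅ v ∈ Λ', LinearMap.ker (MvPolynomial.aeval v).toLinearMap) := by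
    refine Submodule.mem_inf.2 ⟨(mem_homogeneousSubmodule _ _).2 hg, ?_⟩
    simp only [Submodule.mem_iInf, LinearMap.mem_ker]
    intro w hw
    show aeval w (linForm ℓ * f) = 0
    rw [map_mul, aeval_linForm]
    by_cases h1 : w = w₁
    · rw [h1, hℓ1, zero_mul]
    by_cases h2 : w = w₂
    · rw [h2, hℓ2, zero_mul]
    rw [hfS w (Finset.mem_erase.2 ⟨h2, Finset.mem_erase.2 ⟨h1, hw⟩⟩), mul_zero]
  have h3 := (Submodule.mem_inf.1 (hle hmem)).2
  simp only [Submodule.mem_iInf, LinearMap.mem_ker] at h3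
  have h4 : aeval v (linForm ℓ * f) = 0 := h3 v hv
  rw [map_mul, aeval_linForm] at h4
  exact mul_ne_zero hℓv hfv h4

end Groth.Agent.PlanePts
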